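import Mathlib
import Groth.Agent.InjModLib.Noeth
import Groth.Agent.QCohLib.Extend
import Groth.Agent.ExactHpLib.QCat

/-!
# Quasi-coherent modules: colimits, well-copoweredness, a small separating family
-/

set_option autoImplicit false
set_option backward.isDefEq.respectTransparency false
set_option backward.isDefEq.respectTransparency.types false
set_option linter.style.haveILetI false

universe u

open CategoryTheory CategoryTheory.Limits AlgebraicGeometry TopologicalSpace Opposite

noncomputable section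

namespace QCohSepLib

variable (X : Scheme.{u})

theorem hasColimits : HasColimitsOfSize.{u, u} (QCohCat.QCoh X) := by
  refine ⟨fun J _ => ?_⟩
  haveI : HasColimitsOfShape J X.Modules := inferInstance
  haveI : (QCohCat.isQCoh X).IsClosedUnderColimitsOfShape J :=
    ObjectProperty.IsClosedUnderColimitsOfShape.mk' (by
      rintro M ⟨F, hF⟩
      exact QCohLib.isQCoh_colimit F hF)
  infer_instance

theorem wellPowered_op : WellPowered.{u} (QCohCat.QCoh X)ᵒᵖ := by
  haveI := InjModLib.isGrothendieckAbelian_modules (X := X)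
  haveI : WellPowered.{u} X.Modules := IsGrothendieckAbelian.wellPowered.{u} X.Modules
  let Q := QCohCat.isQCoh X
  haveI : Q.ι.PreservesMonomorphisms := Q.preservesMonomorphisms_ι_of_isNormalEpiCategory
  haveI hwpQ : WellPowered.{u} Q.FullSubcategory := ⟨fun M => by
    let t : Subobject M → Subobject M.obj :=
      Subobject.lift (fun A f _ => Subobject.mk (Q.ι.map f)) fun A B f g _ _ i hi =>
        Subobject.mk_eq_mk_of_comm _ _ (Q.ι.mapIso i) (by rw [← hi, Q.ι.map_comp]; rfl)
    refine small_of_injective (f := t) ?_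
    intro a b
    induction a using Subobject.ind
    induction b using Subobject.ind
    rename_i A f _ B g _
    intro h
    let i := Subobject.isoOfMkEqMk (Q.ι.map f) (Q.ι.map g) h
    refine Subobject.mk_eq_mk_of_comm _ _ (Q.fullyFaithfulι.preimageIso i) (Q.ι.map_injective ?_)
    rw [Q.ι.map_comp, Functor.FullyFaithful.preimageIso_hom, Functor.FullyFaithful.map_preimage]
    exact Subobject.ofMkLEMk_comp _⟩
  exact @Abelian.wellPowered_opposite _ _ _ _ hwpQ

variable {X}

/-- The finite sums of the modules `freeU`. -/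
def gen {n : ℕ} (U : Fin n → X.Opens) : X.Modules :=
  ∐ fun k : ULift.{u} (Fin n) => KFlatLib.freeU (U k.down)

variable (X) in
/-- An index set for quasi-coherent quotients of finite sums of `freeU`. -/
def Idx : Type (u + 1) :=
  Σ (n : ℕ) (U : Fin n → X.Opens), {K : Subobject (gen U) // QCohCat.isQCoh X (cokernel K.arrow)}

variable (X) in
/-- The generators. -/
def obj (i : Idx X) : QCohCat.QCoh X := ⟨cokernel i.2.2.1.arrow, i.2.2.2⟩

theorem small_idx : Small.{u} (Idx X) := by
  haveI := InjModLib.isGrothendieckAbelian_modules (X := X)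
  haveI : WellPowered.{u} X.Modules := IsGrothendieckAbelian.wellPowered.{u} X.Modules
  haveI : ∀ (n : ℕ) (U : Fin n → X.Opens),
      Small.{u} {K : Subobject (gen U) // QCohCat.isQCoh X (cokernel K.arrow)} :=
    fun n U => inferInstance
  unfold Idx
  infer_instance

/-- A quotient of a finite sum of `freeU` separates. -/
theorem epi_desc {F : X.Modules} {n : ℕ} (U : Fin n → X.Opens) (s : ∀ k, Γ(F, U k))
    (hgen : ∀ (V : X.Opens) (a : Γ(F, V)) (p : X), p ∈ V → ∃ (W : X.Opens) (hW : W ≤ V),
      p ∈ W ∧ ∃ (T : Finset (Fin n)) (c : Fin n → Γ(X, W)) (hT : ∀ k ∈ T, W ≤ U k),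
        F.presheaf.map (homOfLE hW).op a =
          ∑ k : T, c k.1 • F.presheaf.map (homOfLE (hT k.1 k.2)).op (s k.1)) :
    Epi (Sigma.desc fun k : ULift.{u} (Fin n) => KFlatLib.secMap (s k.down)) := by
  constructor
  intro N g h hgh
  have hk : ∀ k : Fin n, g.app (U k) (s k) = h.app (U k) (s k) := fun k => by
    have h2 := congrArg (fun φ => Sigma.ι (fun k : ULift.{u} (Fin n) => KFlatLib.freeU (U k.down)) ⟨k⟩ ≫ φ) hgh
    simp only [Sigma.ι_desc_assoc, KFlatLib.secMap_comp] at h2
    exact (KFlatLib.freeUEquiv (U k) N).symm.injective h2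
  refine Scheme.Modules.hom_ext _ _ fun V => ?_
  ext a
  choose W hW hp T c hT hc using fun p : V => hgen V a p.1 p.2
  refine TopCat.Sheaf.eq_of_locally_eq' ((QCohLib.toAbF X).obj N : TopCat.Sheaf AddCommGrpCat _)
    W V (fun p => homOfLE (hW p)) (fun q hq => Opens.mem_iSup.mpr ⟨⟨q, hq⟩, hp ⟨q, hq⟩⟩) _ _
    fun p => ?_
  refine ((QCohLib.app_map g _ a).symm.trans ?_).trans (QCohLib.app_map h _ a)
  show g.app (W p) _ = h.app (W p) _
  rw [hc p, map_sum, map_sum]
  refine Finset.sum_congr rfl fun k _ => ?_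
  rw [QCohLib.app_smul, QCohLib.app_smul, QCohLib.app_map, QCohLib.app_map, hk]

variable (X) in
theorem exists_separating [CompactSpace X] [QuasiSeparatedSpace X] :
    ∃ (T : Type u) (g : T → QCohCat.QCoh X), (ObjectProperty.ofObj g).IsSeparating := by
  classical
  haveI := small_idx (X := X)
  refine ⟨Shrink.{u} (Idx X), fun t => obj X ((equivShrink _).symm t), ?_⟩
  intro M N f₁ f₂ hh
  ext1
  refine Scheme.Modules.hom_ext _ _ fun V => ?_
  ext s
  choose A hA hpA hAV using fun p : V => Opens.isBasis_iff_nbhd.mp X.isBasis_affineOpens p.2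
  refine TopCat.Sheaf.eq_of_locally_eq' ((QCohLib.toAbF X).obj N.obj : TopCat.Sheaf AddCommGrpCat _)
    A V (fun p => homOfLE (hAV p)) (fun q hq => Opens.mem_iSup.mpr ⟨⟨q, hq⟩, hpA ⟨q, hq⟩⟩) _ _
    fun p => ?_
  refine ((QCohLib.app_map f₁.hom _ s).symm.trans ?_).trans (QCohLib.app_map f₂.hom _ s)
  generalize M.obj.presheaf.map (homOfLE (hAV p)).op s = t
  haveI : Coh.IsQCoh M.obj := M.property
  obtain ⟨S, hft, hmem⟩ := QCohLib.LocSub.exists_ft_through (F := M.obj) (A p) (hA p) t
  choose O _ hqO m σ hσ hspan using fun q : X => hft q trivial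
  obtain ⟨B, hB⟩ := isCompact_univ.elim_finite_subcover (fun q : X => (O q : Set X))
    (fun q => (O q).isOpen) (fun q _ => Set.mem_iUnion.mpr ⟨q, hqO q⟩)
  obtain ⟨n, ⟨e⟩⟩ := Finite.exists_equiv_fin (Σ q : B, ULift.{u} (Fin (m q.1)))
  let U : Fin n → X.Opens := fun k => O (e.symm k).1.1
  let sec : ∀ k, Γ(S.toModules, U k) := fun k =>
    S.lift (σ (e.symm k).1.1 (e.symm k).2) (hσ _ _)
  let π : gen U ⟶ S.toModules := Sigma.desc fun k => KFlatLib.secMap (sec k.down)
  haveI : Epi π := epi_desc U sec fun W a q hq => by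
    obtain ⟨b, hb, hqb⟩ := Set.mem_iUnion₂.mp (hB (Set.mem_univ q))
    have ha := S.res (inf_le_left : W ⊓ O b ≤ W) (S.ι_app_mem a)
    obtain ⟨W', hW', hW'O, hqW', c, hc⟩ := hspan b _ inf_le_right _ ha q ⟨hq, hqb⟩ hqb
    let emb : ULift.{u} (Fin (m b)) ↪ Fin n :=
      ⟨fun i => e ⟨⟨b, hb⟩, i⟩, fun i j hij => by
        have := e.injective hij
        simpa using this⟩
    let c' : Fin n → Γ(X, W') := fun k => if h : (e.symm k).1.1 = b then c (h ▸ (e.symm k).2) else 0
    have hT : ∀ k ∈ Finset.univ.map emb, W' ≤ U k := fun k hk => by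
      obtain ⟨i, -, rfl⟩ := Finset.mem_map.mp hk
      show W' ≤ O _
      simp only [emb, Function.Embedding.coeFn_mk, Equiv.symm_apply_apply]
      exact hW'O
    refine ⟨W', hW'.trans inf_le_left, hqW', Finset.univ.map emb, c', hT, S.ι_app_injective _ ?_⟩
    rw [QCohLib.app_map, map_sum]
    refine ((QCohLib.map_map' M.obj _ _ _).symm.trans hc).trans ?_
    refine Fintype.sum_bijective
      (fun i => (⟨emb i, Finset.mem_map_of_mem _ (Finset.mem_univ i)⟩ : ↥(Finset.univ.map emb)))
      ⟨fun i j hij => emb.injective (congrArg Subtype.val hij), fun k => by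
        obtain ⟨i, -, hi⟩ := Finset.mem_map.mp k.2
        exact ⟨i, Subtype.ext hi⟩⟩ _ _ fun i => ?_
    have key : ∀ (x : Σ q : B, ULift.{u} (Fin (m q.1))) (hx : x = ⟨⟨b, hb⟩, i⟩) (hle : W' ≤ O x.1.1),
        (if h : x.1.1 = b then c (h ▸ x.2) else 0) •
          S.toModules.presheaf.map (homOfLE hle).op (S.lift (σ x.1.1 x.2) (hσ _ _)) =
        c i • S.toModules.presheaf.map (homOfLE hW'O).op (S.lift (σ b i) (hσ _ _)) := by
      rintro _ rfl hle
      rw [dif_pos rfl]
    rw [key (e.symm (emb i)) (by simp [emb]) _, QCohLib.app_smul, QCohLib.app_map, S.ι_lift]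
  let K := kernelSubobject π
  have eiso : cokernel K.arrow ≅ S.toModules :=
    cokernelIsoOfEq (kernelSubobject_arrow π).symm ≪≫ cokernelEpiComp _ _ ≪≫
      (IsColimit.coconePointUniqueUpToIso (cokernelIsCokernel (kernel.ι π))
        (Abelian.epiIsCokernelOfKernel (KernelFork.ofι (kernel.ι π) (kernel.condition π)) (kernelIsKernel π)))
  have hQ : QCohCat.isQCoh X (cokernel K.arrow) :=
    haveI : Coh.IsQCoh S.toModules := QCohLib.LocSub.isQCoh_toModules S hft
    QCohLib.isQCoh_of_iso eiso.symm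
  let i₀ : Idx X := ⟨n, U, K, hQ⟩
  let a : obj X ((equivShrink _).symm (equivShrink _ i₀)) ⟶ M :=
    eqToHom (by rw [Equiv.symm_apply_apply]) ≫
      ((QCohCat.isQCoh X).homMk (eiso.hom ≫ S.ι) : obj X i₀ ⟶ M)
  have hF := hh _ (ObjectProperty.ofObj_apply _ (equivShrink _ i₀)) a
  simp only [a, Category.assoc, cancel_epi] at hF
  have h3 : S.ι ≫ f₁.hom = S.ι ≫ f₂.hom := by
    rw [← cancel_epi eiso.hom]
    have := congrArg InducedCategory.Hom.hom hF
    simpa using this
  have h4 := congrArg (fun φ => φ.app (A p) (S.lift t hmem)) h3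
  exact h4

variable (X) in
theorem isLeftAdjoint [CompactSpace X] [QuasiSeparatedSpace X] {D : Type*} [Category.{u} D]
    (F : QCohCat.QCoh X ⥤ D) [PreservesColimitsOfSize.{u, u} F] : F.IsLeftAdjoint := by
  haveI := hasColimits X
  haveI := wellPowered_op X
  obtain ⟨T, g, hg⟩ := exists_separating X
  exact isLeftAdjoint_of_preservesColimits_of_isSeparating (P := ObjectProperty.ofObj g) hg F

end QCohSepLib
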